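import Cfsg.Agent.H244.IFG.Cen
import Cfsg.Agent.Cit.HexCent2
import Cfsg.Agent.Cit.HexInv

/-!
# S5719, `G₂(3)`: the centraliser of the involution `z` of a hexagon group over `F₃` (helper244)
-/

set_option autoImplicit false

namespace Cfsg.Agent.H244.IFG

open Cfsg.Agent.Lib.SL2Mat Cfsg.Agent.Cit.HexBase

theorem two_ne : (2 : ZMod 3) ≠ 0 := by decide

/-- the prime field -/
abbrev FX := ↥(fx (RingEquiv.refl (ZMod 3)))

def io : ZMod 3 →+* FX where
  toFun a := ⟨a, rfl⟩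
  map_one' := rfl
  map_mul' _ _ := rfl
  map_zero' := rfl
  map_add' _ _ := rfl

def em : SZ →* Matrix.SpecialLinearGroup (Fin 2) FX := Matrix.SpecialLinearGroup.map io

theorem em_ent (x : SZ) (i j : Fin 2) : ent (em x) i j = io (ent x i j) := rfl

theorem em_inj {x y : SZ} (h : em x = em y) : x = y := by
  have h1 : ∀ i j, ent x i j = ent y i j := fun i j => by
    have h2 : ent (em x) i j = ent (em y) i j := by rw [h]
    rw [em_ent, em_ent] at h2
    exact congrArg Subtype.val h2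
  exact ext_ent (h1 _ _) (h1 _ _) (h1 _ _) (h1 _ _)

theorem em_surj (y : Matrix.SpecialLinearGroup (Fin 2) FX) : ∃ x, em x = y := by
  refine ⟨mk ((ent y 0 0 : FX) : ZMod 3) ((ent y 0 1 : FX) : ZMod 3) ((ent y 1 0 : FX) : ZMod 3)
    ((ent y 1 1 : FX) : ZMod 3) ?_, ?_⟩
  · exact congrArg Subtype.val (det_eq y)
  · refine ext_ent ?_ ?_ ?_ ?_ <;> rfl

theorem tw_eq (x : SZ) (a : ZMod 3) (ha : a ≠ 0) (h : a = -1) : conjGL (dgl a ha) x = tw x := by
  subst h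
  rw [conjGL_dgl_ent]
  refine ext_ent ?_ ?_ ?_ ?_
  · rfl
  · simp [tw]
  · simp [tw, div_neg]
  · rfl

theorem tw_em (x : SZ) (a : FX) (ha : a ≠ 0) (h : a = -1) : conjGL (dgl a ha) (em x) = em (tw x) := by
  subst h
  rw [conjGL_dgl_ent]
  refine ext_ent ?_ ?_ ?_ ?_
  · rfl
  · rw [mk_01, em_ent, em_ent]
    simp [tw]
  · rw [mk_10, em_ent, em_ent]
    simp [tw, div_neg]
  · rfl

variable {L : Type*} [Group L] (c : HexGrp (RingEquiv.refl (ZMod 3)) L)

theorem mI_eq : (dg (-1) (neg_ne_zero.2 one_ne_zero) : SZ) = mI := by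
  refine ext_ent ?_ ?_ ?_ ?_
  · rfl
  · rfl
  · rfl
  · rw [dg_11, inv_neg, inv_one]
    rfl

theorem em_mI : em mI = (dg (-1) (neg_ne_zero.2 one_ne_zero) : Matrix.SpecialLinearGroup (Fin 2) FX) := by
  refine ext_ent ?_ ?_ ?_ ?_
  · rfl
  · rfl
  · rfl
  · rw [dg_11, inv_neg, inv_one]
    rfl

theorem pb_mI : c.pb mI = c.z := by
  rw [← mI_eq]
  rfl

theorem p4_mI : c.p4 (em mI) = c.z := by
  rw [em_mI, ← c.z_eq_p4]

theorem neg_ne' : (-1 : FX) ≠ 0 := neg_ne_zero.2 one_ne_zero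

/-- the outer element -/
def dl : L := c.pa (dg (-1) neg_ne')

theorem dl_sq : dl c * dl c = 1 := by
  rw [dl, ← map_mul]
  have e : (dg (-1) neg_ne' : Matrix.SpecialLinearGroup (Fin 2) FX) * dg (-1) neg_ne' = 1 := by
    refine ext_ent ?_ ?_ ?_ ?_ <;> simp [ent_mul]
  rw [e, map_one]

theorem dl_inv : (dl c)⁻¹ = dl c := inv_eq_of_mul_eq_one_right (dl_sq c)

theorem dl_pb (x : SZ) : dl c * c.pb x = c.pb (tw x) * dl c := by
  have h := c.pa_dg_pb (-1) neg_ne' x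
  rw [tw_eq _ _ _ (by rw [show ((-1 : FX) : ZMod 3) = -1 from rfl, inv_neg, inv_one])] at h
  exact mul_inv_eq_iff_eq_mul.1 h

theorem dl_p4 (x : SZ) : dl c * c.p4 (em x) = c.p4 (em (tw x)) * dl c := by
  have h := c.pa_dg_p4 two_ne (-1) neg_ne' (em x)
  rw [tw_em _ _ _ rfl] at h
  exact mul_inv_eq_iff_eq_mul.1 h

theorem dl_z : dl c * c.z = c.z * dl c := by
  rw [← pb_mI, dl_pb]
  congr 2

theorem eqc' (x y : SZ) (h : c.pb x = c.p4 (em y)) : (x = 1 ∧ y = 1) ∨ (x = mI ∧ y = mI) := by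
  rcases c.eq_of_pb_eq_p4 h with h1 | h1
  · left
    refine ⟨c.pb_inj two_ne (by rw [h1, map_one]), em_inj (c.p4_inj ?_)⟩
    rw [← h, h1, map_one, map_one]
  · right
    refine ⟨c.pb_inj two_ne (by rw [h1, pb_mI]), em_inj (c.p4_inj ?_)⟩
    rw [← h, h1, p4_mI]

theorem dn' (x y : SZ) : c.pb x * c.p4 (em y) ≠ dl c := by
  intro h
  obtain ⟨a, ha, h1⟩ := c.sq_of_mem two_ne (x := 1) (x' := x) (y := 1) (y' := em y) (t := -1) (ht := neg_ne') (by
    rw [map_one, map_one, one_mul, one_mul, h]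
    rfl)
  have h2 : (-1 : ZMod 3) = (a : ZMod 3) ^ 2 := congrArg Subtype.val h1
  generalize (a : ZMod 3) = b at h2
  revert h2 b
  decide

theorem all' {g : L} (hg : g * c.z = c.z * g) :
    (∃ x y, g = c.pb x * c.p4 (em y)) ∨ ∃ x y, g = c.pb x * c.p4 (em y) * dl c := by
  obtain ⟨x, y, t, ht, rfl⟩ := c.mem_CZ_form two_ne hg
  obtain ⟨y, rfl⟩ := em_surj y
  have h1 : t = 1 ∨ t = -1 := by
    have h2 : (t : ZMod 3) ≠ 0 := fun h => ht (Subtype.ext h)
    have h3 : ∀ b : ZMod 3, b ≠ 0 → b = 1 ∨ b = -1 := by decide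
    rcases h3 _ h2 with h | h
    · exact Or.inl (Subtype.ext h)
    · exact Or.inr (Subtype.ext h)
  rcases h1 with rfl | rfl
  · left
    refine ⟨x, y, ?_⟩
    have e : (dg 1 ht : Matrix.SpecialLinearGroup (Fin 2) FX) = 1 := by
      refine ext_ent ?_ ?_ ?_ ?_ <;> simp
    rw [e, map_one, mul_one]
  · right
    exact ⟨x, y, rfl⟩

theorem pb_mem (x : SZ) : c.pb x ∈ Subgroup.centralizer ({c.z} : Set L) :=
  Subgroup.mem_centralizer_singleton_iff.2 (by rw [← pb_mI, ← map_mul, ← map_mul]; congr 1; revert x; decide +kernel)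

theorem p4_mem (x : SZ) : c.p4 (em x) ∈ Subgroup.centralizer ({c.z} : Set L) :=
  Subgroup.mem_centralizer_singleton_iff.2 (by
    rw [← p4_mI, ← map_mul, ← map_mul, ← map_mul, ← map_mul]; congr 2; revert x; decide +kernel)

theorem dl_mem : dl c ∈ Subgroup.centralizer ({c.z} : Set L) :=
  Subgroup.mem_centralizer_singleton_iff.2 (dl_z c)

/-- **the centraliser of `z`** -/
def cen3 : Cen3 ↥(Subgroup.centralizer ({c.z} : Set L)) where
  p1 := c.pb.codRestrict _ (pb_mem c)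
  p4 := (c.p4.comp em).codRestrict _ (p4_mem c)
  δ := ⟨dl c, dl_mem c⟩
  comm x y := Subtype.ext (c.comm_pb_p4 x (em y))
  zz := Subtype.ext ((pb_mI c).trans (p4_mI c).symm)
  eqc x y h := eqc' c x y (congrArg Subtype.val h)
  d2 := Subtype.ext (dl_sq c)
  tw1 x := Subtype.ext (dl_pb c x)
  tw4 x := Subtype.ext (dl_p4 c x)
  dn x y h := dn' c x y (congrArg Subtype.val h)
  all := fun ⟨g, hg⟩ => by
    rcases all' c (Subgroup.mem_centralizer_singleton_iff.1 hg) with ⟨x, y, h⟩ | ⟨x, y, h⟩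
    · exact Or.inl ⟨x, y, Subtype.ext h⟩
    · exact Or.inr ⟨x, y, Subtype.ext h⟩

end Cfsg.Agent.H244.IFG
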