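import Cfsg.Agent.H917.IFG.Gen

/-!
# `G₂(q)`, `³D₄(q)`, `q` odd: no outer diagonal elements (S5719, box (b2'), helper244)

`C(z) = (K 1 K 4).2`.  If a subgroup `A` contains `K 1` or `K 4` and `z` is the only involution of `A ∩ C(z)`, then
`A ∩ C(z) ≤ K 1 K 4`.
-/

set_option autoImplicit false

namespace Cfsg.Agent.H244.IFG

open Cfsg.Agent.SplitTwo Cfsg.Agent.TitsThree.RankTwoZ Cfsg.Agent.Lib.SL2Mat
  Cfsg.Agent.TitsThree.RankTwoIdx Cfsg.Agent.TitsThree.RankTwoRGD Cfsg.Agent.Cit.HexBase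

section mat

variable {K : Type*} [Field K]

theorem wm_conj {t : K} (ht : t ≠ 0) :
    wm (1 : K) one_ne_zero * conjGL (dgl t ht) (wm 1 one_ne_zero) * dg t ht = dg (-1) (neg_ne_zero.2 one_ne_zero) := by
  rw [conjGL_dgl_ent]
  refine ext_ent ?_ ?_ ?_ ?_ <;> simp [ent_mul, ht]

/-- a matrix of nonsquare determinant `t` whose square is `t` -/
theorem key_ne (h2 : (2 : K) ≠ 0) {t : K} (ht : t ≠ 0) (hns : ¬ IsSquare t) (y : SL2 K) :
    y * conjGL (dgl t ht) y * dg t ht ≠ 1 := by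
  intro h
  rw [conjGL_dgl_ent] at h
  have hd := det_eq y
  have e00 := congrArg (fun x => ent x 0 0) h
  have e01 := congrArg (fun x => ent x 0 1) h
  have e10 := congrArg (fun x => ent x 1 0) h
  have e11 := congrArg (fun x => ent x 1 1) h
  simp only [ent_mul, mk_00, mk_01, mk_10, mk_11, dg_00, dg_01, dg_10, dg_11, ent_one_00, ent_one_01, ent_one_10,
    ent_one_11] at e00 e01 e10 e11
  clear h
  generalize ent y 0 0 = a at *
  generalize ent y 0 1 = b at *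
  generalize ent y 1 0 = u at *
  generalize ent y 1 1 = v at *
  have f00 : a * a * t + b * u = 1 := by
    field_simp at e00
    linear_combination e00
  have f01 : b * (a * t + v) = 0 := by
    field_simp at e01
    linear_combination e01
  have f10 : u * (a * t + v) = 0 := by
    field_simp at e10
    linear_combination e10
  have f11 : t * u * b + v * v = t := by
    field_simp at e11
    linear_combination e11
  by_cases h0 : a * t + v = 0
  · apply h2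
    linear_combination -f00 - hd + a * h0
  · have hb : b = 0 := (mul_eq_zero.1 f01).resolve_right h0
    apply hns
    refine ⟨v, ?_⟩
    rw [← f11, hb]
    ring

end mat

section abs

variable {K K' : Type*} [Field K] [Field K'] {L : Type*} [Group L] {ρ : SL2 K →* L} {τ : SL2 K' →* L}

theorem sq_form (hc : ∀ x y, ρ x * τ y = τ y * ρ x)
    (hz : ρ (dg (-1) (neg_ne_zero.2 one_ne_zero)) = τ (dg (-1) (neg_ne_zero.2 one_ne_zero))) {d : L}
    {t : K} (ht : t ≠ 0) {t' : K'} (ht' : t' ≠ 0) (hdρ : ∀ x, d * ρ x * d⁻¹ = ρ (conjGL (dgl t ht) x))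
    (hdτ : ∀ y, d * τ y * d⁻¹ = τ (conjGL (dgl t' ht') y)) (hd2 : d * d = ρ (dg t ht) * τ (dg t' ht')) (y : SL2 K') :
    (τ y * ρ (wm 1 one_ne_zero) * d) * (τ y * ρ (wm 1 one_ne_zero) * d) =
      τ (dg (-1) (neg_ne_zero.2 one_ne_zero) * (y * conjGL (dgl t' ht') y * dg t' ht')) := by
  have e1 : (τ y * ρ (wm 1 one_ne_zero) * d) * (τ y * ρ (wm 1 one_ne_zero) * d) =
      τ y * (ρ (wm 1 one_ne_zero) * (d * τ y * d⁻¹)) * (d * ρ (wm 1 one_ne_zero) * d⁻¹) * (d * d) := by group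
  rw [e1, hdρ, hdτ, hd2, hc]
  have e2 : τ y * (τ (conjGL (dgl t' ht') y) * ρ (wm 1 one_ne_zero)) * ρ (conjGL (dgl t ht) (wm 1 one_ne_zero)) *
      (ρ (dg t ht) * τ (dg t' ht')) = τ (y * conjGL (dgl t' ht') y) *
      ρ (wm 1 one_ne_zero * conjGL (dgl t ht) (wm 1 one_ne_zero) * dg t ht) * τ (dg t' ht') := by
    rw [map_mul, map_mul, map_mul]
    group
  rw [e2, wm_conj, ← hc, hz, ← map_mul, ← map_mul, mul_assoc]

/-- **No outer elements**, abstract form. -/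
theorem no_outer [Finite K'] (h2 : (2 : K') ≠ 0) (hc : ∀ x y, ρ x * τ y = τ y * ρ x) {z : L}
    (hzρ : z = ρ (dg (-1) (neg_ne_zero.2 one_ne_zero))) (hzτ : z = τ (dg (-1) (neg_ne_zero.2 one_ne_zero)))
    (hz1 : z ≠ 1) (hcap : ∀ x y, ρ x = τ y → ρ x = 1 ∨ ρ x = z) (hinj : Function.Injective τ) {d : L}
    {t : K} (ht : t ≠ 0) {t' : K'} (ht' : t' ≠ 0) (hns : ¬ IsSquare t')
    (hdρ : ∀ x, d * ρ x * d⁻¹ = ρ (conjGL (dgl t ht) x))
    (hdτ : ∀ y, d * τ y * d⁻¹ = τ (conjGL (dgl t' ht') y)) (hd2 : d * d = ρ (dg t ht) * τ (dg t' ht'))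
    (hdL : ∀ x y, d ≠ ρ x * τ y) (hdz : d * z = z * d) {A : Subgroup L} (hρ : ∀ x, ρ x ∈ A)
    (h1 : ∀ a ∈ A, a * a = 1 → a ≠ 1 → a * z = z * a → a = z) (y : SL2 K') : τ y * d ∉ A := by
  intro hA
  have hzz : z * z = 1 := by
    rw [hzρ, ← map_mul, dg_mul_dg]
    have e : dg ((-1 : K) * -1) (mul_ne_zero (neg_ne_zero.2 one_ne_zero) (neg_ne_zero.2 one_ne_zero)) = 1 := by
      refine ext_ent ?_ ?_ ?_ ?_ <;> simp
    rw [e, map_one]
  have hzcρ : ∀ x, ρ x * z = z * ρ x := fun x => by rw [hzτ]; exact hc _ _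
  have hzcτ : ∀ y, τ y * z = z * τ y := fun y => by rw [hzρ]; exact (hc _ _).symm
  -- the elements `h y = τ y ρ w d`
  have hsq := fun y => sq_form hc (hzρ.symm.trans hzτ) ht ht' hdρ hdτ hd2 y
  have hyA : τ y * ρ (wm 1 one_ne_zero) * d ∈ A := by
    rw [← hc, mul_assoc]
    exact mul_mem (hρ _) hA
  have hww : ρ (wm 1 one_ne_zero) * ρ (wm 1 one_ne_zero) = z := by
    rw [← map_mul, HexGrp.wm_sq, ← hzρ]
  -- `M`, of order `2 ^ k * m`
  obtain ⟨M, hM⟩ : ∃ M, M = dg (-1) (neg_ne_zero.2 one_ne_zero) * (y * conjGL (dgl t' ht') y * dg t' ht') := ⟨_, rfl⟩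
  have hMh := hsq y
  rw [← hM] at hMh
  have hMA : τ M ∈ A := by
    rw [← hMh]
    exact mul_mem hyA hyA
  obtain ⟨k, m, ⟨j, hj⟩, hn⟩ := Nat.exists_eq_two_pow_mul_odd (orderOf_pos M).ne'
  obtain ⟨h, hh⟩ : ∃ h, h = τ y * ρ (wm 1 one_ne_zero) * d := ⟨_, rfl⟩
  rw [← hh] at hMh hyA
  -- the 2-part
  have hh' : τ (M ^ j * y) * ρ (wm 1 one_ne_zero) * d = (h * h) ^ j * h := by
    rw [hMh, map_mul, map_pow, hh]
    group
  have hMh' := hsq (M ^ j * y)
  rw [hh'] at hMh'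
  obtain ⟨M', hM'⟩ : ∃ M', M' = dg (-1) (neg_ne_zero.2 one_ne_zero) *
    ((M ^ j * y) * conjGL (dgl t' ht') (M ^ j * y) * dg t' ht') := ⟨_, rfl⟩
  rw [← hM'] at hMh'
  have hMm : M' = M ^ m := by
    apply hinj
    rw [← hMh', map_pow, ← hMh, hj]
    have e1 : (h * h) ^ j * h = h ^ (2 * j + 1) := by rw [← pow_two, ← pow_mul, ← pow_succ]
    rw [e1, ← pow_add, ← pow_two h, ← pow_mul]
    congr 1
    ring
  have hne : M' ≠ dg (-1) (neg_ne_zero.2 one_ne_zero) := by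
    rw [hM']
    intro h0
    exact key_ne h2 ht' hns (M ^ j * y) (mul_eq_left.1 h0)
  have hh'A : (h * h) ^ j * h ∈ A := mul_mem (pow_mem (mul_mem hyA hyA) _) hyA
  have hM'A : τ M' ∈ A := by
    rw [← hMh']
    exact mul_mem hh'A hh'A
  have hord : M' ^ (2 ^ k) = 1 := by
    rw [hMm, ← pow_mul, mul_comm, ← hn, pow_orderOf_eq_one]
  obtain ⟨i, -, hi⟩ := (Nat.dvd_prime_pow Nat.prime_two).1 (orderOf_dvd_of_pow_eq_one hord)
  rcases i with _ | i
  · -- an involution outside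
    rw [pow_zero, orderOf_eq_one_iff] at hi
    rw [hi, map_one] at hMh'
    rw [← hh'] at hMh' hh'A
    have hhz : τ (M ^ j * y) * ρ (wm 1 one_ne_zero) * d * z = z * (τ (M ^ j * y) * ρ (wm 1 one_ne_zero) * d) := by
      rw [mul_assoc, hdz, ← mul_assoc, mul_assoc _ _ z, hzcρ, ← mul_assoc, hzcτ]
      group
    have hout : ∀ x : SL2 K, τ (M ^ j * y) * ρ (wm 1 one_ne_zero) * d ≠ ρ x := by
      intro x h0
      apply hdL ((wm 1 one_ne_zero)⁻¹ * x) ((M ^ j * y)⁻¹)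
      have e : d = (ρ (wm 1 one_ne_zero))⁻¹ * ((τ (M ^ j * y))⁻¹ * ρ x) := by
        rw [← h0]; group
      rw [e, ← map_inv, ← map_inv, ← hc, map_mul, mul_assoc]
    have h3 := h1 _ hh'A hMh' (fun h0 => hout 1 (by rw [h0, map_one])) hhz
    exact hout _ (h3.trans hzρ)
  · have hV : τ (M' ^ 2 ^ i) = z := by
      apply h1
      · rw [map_pow]; exact pow_mem hM'A _
      · rw [← map_mul, ← pow_add, ← two_mul, ← pow_succ', ← hi, pow_orderOf_eq_one, map_one]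
      · intro h0
        have h3 : M' ^ 2 ^ i = 1 := hinj (h0.trans (map_one τ).symm)
        have h4 := orderOf_dvd_of_pow_eq_one h3
        rw [hi] at h4
        have h5 := (Nat.pow_dvd_pow_iff_le_right (by norm_num : 1 < 2)).1 h4
        omega
      · exact hzcτ _
    rcases i with _ | i
    · rw [pow_zero, pow_one] at hV
      exact hne (hinj (hV.trans hzτ))
    · have hW : τ (M' ^ 2 ^ i) * τ (M' ^ 2 ^ i) = z := by
        rw [← map_mul, ← pow_add, ← two_mul, ← pow_succ', hV]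
      have hWA : τ (M' ^ 2 ^ i) ∈ A := by
        rw [map_pow]; exact pow_mem hM'A _
      have hcW := hc (wm 1 one_ne_zero) (M' ^ 2 ^ i)
      have hρw : ρ (wm 1 one_ne_zero) = 1 ∨ ρ (wm 1 one_ne_zero) = z := by
        by_cases h3 : ρ (wm 1 one_ne_zero) * τ (M' ^ 2 ^ i) = 1
        · apply hcap _ (M' ^ 2 ^ i)⁻¹
          rw [map_inv]
          exact eq_inv_of_mul_eq_one_left h3
        · have h4 := h1 _ (mul_mem (hρ (wm 1 one_ne_zero)) hWA) (by
            calc ρ (wm 1 one_ne_zero) * τ (M' ^ 2 ^ i) * (ρ (wm 1 one_ne_zero) * τ (M' ^ 2 ^ i))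
                = ρ (wm 1 one_ne_zero) * (τ (M' ^ 2 ^ i) * ρ (wm 1 one_ne_zero)) * τ (M' ^ 2 ^ i) := by group
              _ = (ρ (wm 1 one_ne_zero) * ρ (wm 1 one_ne_zero)) * (τ (M' ^ 2 ^ i) * τ (M' ^ 2 ^ i)) := by
                rw [← hcW]; group
              _ = 1 := by rw [hww, hW, hzz]) h3 (by rw [mul_assoc, hzcτ, ← mul_assoc, hzcρ, mul_assoc])
          apply hcap _ (dg (-1) (neg_ne_zero.2 one_ne_zero) * (M' ^ 2 ^ i)⁻¹)
          rw [map_mul, ← hzτ, map_inv]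
          exact eq_mul_inv_of_mul_eq h4
      apply hz1
      rw [← hww]
      rcases hρw with h3 | h3
      · rw [h3, mul_one]
      · rw [h3, hzz]

end abs

section hex

universe u

variable {E : Type*} [Field E] {σ : E ≃+* E} {L : Type u} [Group L] (c : HexGrp σ L)

theorem two_fx (h2 : (2 : E) ≠ 0) : (2 : ↥(fx σ)) ≠ 0 := by
  intro h
  exact h2 (congrArg Subtype.val h)

theorem pa_dg_mul_self (t : ↥(fx σ)) (ht : t ≠ 0) :
    c.pa (dg t ht) * c.pa (dg t ht) = c.pb (dg (t : E)⁻¹ (c.act_a t ht).ne1) * c.p4 (dg t ht) := by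
  have e : dg (t * t) (mul_ne_zero ht ht) = dg (t ^ 2) (pow_ne_zero 2 ht) := by
    refine ext_ent ?_ ?_ ?_ ?_ <;> simp [pow_two]
  rw [← map_mul, dg_mul_dg, e, c.pa_dg_sq t ht]
  congr 1
  rw [← map_inv]
  congr 1
  have ht' : (t : E) ≠ 0 := fun h => ht (Subtype.ext h)
  rw [inv_eq_iff_mul_eq_one, dg_mul_dg]
  refine ext_ent ?_ ?_ ?_ ?_ <;> simp [ht']

/-- **Box (b2')**: if `A` contains `K 1` or `K 4` and `z` is the only involution of `A ∩ C(z)`, then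
`A ∩ C(z) ≤ K 1 K 4`. -/
theorem no_outer_hex [Finite E] (h2 : (2 : E) ≠ 0) {A : Subgroup L}
    (h1 : ∀ t ∈ A, t * t = 1 → t ≠ 1 → t * c.z = c.z * t → t = c.z)
    (hK : (∀ x, c.pb x ∈ A) ∨ (∀ y, c.p4 y ∈ A)) {g : L} (hg : g ∈ A) (hgz : g * c.z = c.z * g) : g ∈ c.L0 := by
  by_contra hg0
  obtain ⟨x, y, t, ht, eg⟩ := c.mem_CZ_form h2 hgz
  have hns : ¬ IsSquare t := by
    intro hs
    apply hg0
    rw [eg]
    exact mul_mem (mul_mem (c.K1_le_L0 ⟨_, rfl⟩) (c.K4_le_L0 ⟨_, rfl⟩)) (c.pa_dg_mem_L0 ht hs)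
  have hT : c.pa (dg t ht) ∈ c.T0 := ⟨_, _, c.act_a t ht⟩
  have hTz : c.pa (dg t ht) * c.z = c.z * c.pa (dg t ht) := c.T0_comm hT c.z_mem_T0
  have hL : ∀ x y, c.pa (dg t ht) ≠ c.pb x * c.p4 y := by
    intro x y h
    obtain ⟨a, -, ha⟩ := c.sq_of_mem h2 (x := 1) (y := 1) (t := t) (ht := ht) (x' := x) (y' := y)
      (by rw [map_one, map_one, one_mul, one_mul, h])
    exact hns ⟨a, by rw [ha, pow_two]⟩
  rcases hK with hK | hK
  · refine no_outer (ρ := c.pb) (τ := c.p4) (two_fx h2) c.comm_pb_p4 rfl c.z_eq_p4 (c.z_ne h2)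
      (fun x y h => c.eq_of_pb_eq_p4 h) c.p4_inj (c.act_a t ht).ne1 ht hns (c.pa_dg_pb t ht) (c.pa_dg_p4 h2 t ht)
      (pa_dg_mul_self c t ht) hL hTz hK h1 y ?_
    have e : c.p4 y * c.pa (dg t ht) = (c.pb x)⁻¹ * g := by rw [eg]; group
    rw [e]
    exact mul_mem (inv_mem (hK x)) hg
  · refine no_outer (ρ := c.p4) (τ := c.pb) h2 (fun x y => (c.comm_pb_p4 y x).symm) c.z_eq_p4 rfl (c.z_ne h2)
      (fun x y h => ?_) (c.pb_inj h2) ht (c.act_a t ht).ne1 ?_ (c.pa_dg_p4 h2 t ht) (c.pa_dg_pb t ht)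
      ?_ (fun x y h => hL y x ?_) hTz hK h1 x ?_
    · have := c.eq_of_pb_eq_p4 h.symm
      rwa [← h] at this
    · rintro ⟨r, hr⟩
      have ht' : (t : E) ≠ 0 := fun h => ht (Subtype.ext h)
      have e1 : (t : E) = r⁻¹ ^ 2 := by
        rw [← inv_inv (t : E), hr, mul_inv, pow_two]
      have hf : σ r⁻¹ = r⁻¹ := c.fix_of_sq h2 (by rw [← e1]; exact t.2)
      exact hns ⟨⟨r⁻¹, hf⟩, Subtype.ext (by rw [e1, pow_two]; rfl)⟩
    · rw [pa_dg_mul_self c t ht, c.comm_pb_p4]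
    · rw [h, c.comm_pb_p4]
    · have e : c.pb x * c.pa (dg t ht) = (c.p4 y)⁻¹ * g := by rw [eg, c.comm_pb_p4]; group
      rw [e]
      exact mul_mem (inv_mem (hK y)) hg

end hex

end Cfsg.Agent.H244.IFG
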